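import Groth.Agent.AmpleLib.Tensor

/-!
Loci of generation of the powers of an invertible module.
-/

set_option autoImplicit false

universe u

open CategoryTheory AlgebraicGeometry TopologicalSpace

namespace Groth.Agent.StableBaseLib

variable {X : Scheme.{u}}

/-- The complement of the base locus of `M`. -/
noncomputable def genOpen (M : X.Modules) : X.Opens := ⨆ s : Coh.structureModule X ⟶ M, CohB1.genLocus M s

theorem mem_genOpen {M : X.Modules} {x : X} :
    x ∈ genOpen M ↔ ∃ s : Coh.structureModule X ⟶ M, x ∈ CohB1.genLocus M s := Opens.mem_iSup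

theorem genOpen_congr {M M' : X.Modules} (e : M ≅ M') : genOpen M ≤ genOpen M' :=
  iSup_le fun s => (AmpleLib.genLocus_comp_iso s e).ge.trans
    (le_iSup (fun s => CohB1.genLocus M' s) (s ≫ e.hom))

theorem genOpen_le_mul {L : X.Modules} (hL : PicF.IsInvertible L) (m : ℕ) {k : ℕ} (hk : 0 < k) :
    genOpen (CohB1.tensorPow L m) ≤ genOpen (CohB1.tensorPow L (m * k)) := by
  obtain ⟨n, rfl⟩ : ∃ n, k = n + 1 := ⟨k - 1, by omega⟩
  refine le_trans ?_ (genOpen_congr (AmpleLib.powMul L m (n + 1)))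
  exact iSup_le fun s => (AmpleLib.genLocus_powS (AmpleLib.isInvertible_tensorPow hL m) s n).ge.trans
    (le_iSup (fun t => CohB1.genLocus _ t) (AmpleLib.powS s (n + 1)))

theorem genOpen_le_of_dvd {L : X.Modules} (hL : PicF.IsInvertible L) {m n : ℕ} (h : m ∣ n) (hn : 0 < n) :
    genOpen (CohB1.tensorPow L m) ≤ genOpen (CohB1.tensorPow L n) := by
  obtain ⟨k, rfl⟩ := h
  exact genOpen_le_mul hL m (Nat.pos_of_mul_pos_left hn)

theorem genOpen_pow_pow (L : X.Modules) (p m : ℕ) :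
    genOpen (CohB1.tensorPow (CohB1.tensorPow L p) m) = genOpen (CohB1.tensorPow L (p * m)) :=
  le_antisymm (genOpen_congr (AmpleLib.powMul L p m)) (genOpen_congr (AmpleLib.powMul L p m).symm)

/-- On a Noetherian space the loci of generation stabilise. -/
theorem exists_stable [NoetherianSpace X] {L : X.Modules} (hL : PicF.IsInvertible L) :
    ∃ n₀ : ℕ, 0 < n₀ ∧ ∀ k, 0 < k → ∀ m, 0 < m →
      genOpen (CohB1.tensorPow L m) ≤ genOpen (CohB1.tensorPow L (k * n₀)) := by
  obtain ⟨t, ht⟩ := (NoetherianSpace.isCompact (⋃ m : ℕ, (genOpen (CohB1.tensorPow L (m + 1)) : Set X))).elim_finite_subcover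
    (fun m : ℕ => (genOpen (CohB1.tensorPow L (m + 1)) : Set X)) (fun m => (genOpen _).isOpen) subset_rfl
  refine ⟨∏ j ∈ t, (j + 1), Finset.prod_pos fun j _ => Nat.succ_pos j, fun k hk m hm x hx => ?_⟩
  obtain ⟨n, rfl⟩ : ∃ n, m = n + 1 := ⟨m - 1, by omega⟩
  obtain ⟨j, hj, hxj⟩ := Set.mem_iUnion₂.1 (ht (Set.mem_iUnion.2 ⟨n, hx⟩))
  exact genOpen_le_of_dvd hL (Dvd.dvd.mul_left (Finset.dvd_prod_of_mem (fun i : ℕ => i + 1) hj) k)
    (Nat.mul_pos hk (Finset.prod_pos fun j _ => Nat.succ_pos j)) hxj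

end Groth.Agent.StableBaseLib
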